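import Groth.Agent.Serre69.RPushVanish
import Groth.Agent.Coh69.AffVanish
import Groth.Agent.QCqs72.Basic
import Groth.Agent.Coh69.RpushQCoh
import Groth.Agent.QC70.Stalk
import Groth.Agent.QC70.FiniteType
import Groth.Prelude.Def_Formal
import Groth.Prelude.Def_CohB1
import Mathlib.RingTheory.Ideal.AssociatedPrime.Finiteness
import Mathlib.LinearAlgebra.Matrix.Charpoly.LinearMap

/-!
A quasi-compact open of an affine Noetherian scheme carrying a finite acyclic module is closed on the
support.
-/

set_option autoImplicit false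
set_option backward.isDefEq.respectTransparency.types false
set_option linter.style.haveILetI false

noncomputable section

universe u

open CategoryTheory Limits AlgebraicGeometry TopologicalSpace Opposite CategoryTheory.Abelian
open Groth.Agent.QC70 Groth.Agent.Coh69

namespace Groth.Agent.QFin72

/-- Nakayama without localising. -/
theorem exists_smul_eq_zero_of_smul_mem {B N : Type u} [CommRing B] [AddCommGroup N] [Module B N]
    [Module.Finite B N] (w : Ideal B) [w.IsPrime] {a x : B} (ha : a ∉ w) (hx : x ∈ w)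
    (h : ∀ n : N, ∃ m : N, a • n = x • m) : ∃ a' ∉ w, ∀ n : N, a' • n = 0 := by
  let f : Module.End B N := a • LinearMap.id
  have hr : LinearMap.range f ≤ Ideal.span {x} • (⊤ : Submodule B N) := by
    rintro _ ⟨n, rfl⟩
    obtain ⟨m, hm⟩ := h n
    show a • n ∈ _
    rw [hm]
    exact Submodule.smul_mem_smul (Ideal.mem_span_singleton_self x) trivial
  obtain ⟨p, hp, -, hpc, hp0⟩ :=
    LinearMap.exists_monic_and_natDegree_eq_and_coeff_mem_pow_and_aeval_eq_zero B f (Ideal.span {x}) hr
  refine ⟨p.eval a, fun hmem => ?_, fun n => ?_⟩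
  · refine ha ((inferInstance : w.IsPrime).mem_of_pow_mem p.natDegree ?_)
    rw [Polynomial.eval_eq_sum_range, Finset.sum_range_succ, hp.coeff_natDegree, one_mul] at hmem
    refine (Submodule.add_mem_iff_right w (Ideal.sum_mem _ fun i hi => ?_)).1 hmem
    refine w.mul_mem_right _ (Ideal.span_le.2 (Set.singleton_subset_iff.2 hx)
      (Ideal.pow_le_self ?_ (hpc i)))
    have := Finset.mem_range.1 hi
    omega
  · have e : f = algebraMap B (Module.End B N) a := LinearMap.ext fun m => rfl
    rw [e, Polynomial.aeval_algebraMap_apply_eq_algebraMap_eval] at hp0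
    exact congr($hp0 n)

variable {B : CommRingCat.{u}} {W : Scheme.{u}} (j : W ⟶ Spec B)

/-- The functions on `W` coming from `B`. -/
def glob : B →+* Γ(W, ⊤) := j.appTop.hom.comp (Scheme.ΓSpecIso B).inv.hom

theorem basicOpen_glob (b : B) : W.basicOpen (glob j b) = j ⁻¹ᵁ PrimeSpectrum.basicOpen b := by
  rw [← basicOpen_eq_of_affine, Scheme.preimage_basicOpen]
  rfl

/-- Sections as a module over `B`. -/
abbrev modB (M : W.Modules) : Module B Γ(M, (⊤ : W.Opens)) := Module.compHom _ (glob j)

variable [IsOpenImmersion j]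

theorem exists_basicOpen_le {U : W.Opens} {y : W} (hy : y ∈ U) :
    ∃ b : B, y ∈ W.basicOpen (glob j b) ∧ W.basicOpen (glob j b) ≤ U ∧
      (PrimeSpectrum.basicOpen b : (Spec B).Opens) ≤ j ''ᵁ U := by
  obtain ⟨_, ⟨b, rfl⟩, hyb, hbU⟩ := Opens.isBasis_iff_nbhd.mp PrimeSpectrum.isBasis_basic_opens
    (show j y ∈ (j ''ᵁ U : (Spec B).Opens) from ⟨y, hy, rfl⟩)
  refine ⟨b, by rw [basicOpen_glob]; exact hyb, ?_, hbU⟩
  rw [basicOpen_glob]
  intro z hz
  obtain ⟨z', hz', he⟩ := hbU hz
  exact j.isOpenEmbedding.injective he ▸ hz'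

variable [CompactSpace W] [QuasiSeparatedSpace W]

theorem isLocAt_top (M : W.Modules) [M.IsQuasicoherent] : IsLocAt M ⊤ :=
  QCqs72.isLocAt_of_qcqs M (by rw [Opens.coe_top]; exact isCompact_univ)
    (by rw [Opens.coe_top]; exact IsQuasiSeparated.of_quasiSeparatedSpace _)

omit [IsOpenImmersion j] [CompactSpace W] [QuasiSeparatedSpace W] in
theorem isUnit_glob (b : B) : IsUnit (resO W (W.basicOpen_le (glob j b)) (glob j b)) :=
  RingedSpace.isUnit_res_basicOpen _ _

omit [IsOpenImmersion j] [CompactSpace W] [QuasiSeparatedSpace W] in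
theorem glob_pow_smul_eq_zero {M : W.Modules} {b : B} {n : Γ(M, (⊤ : W.Opens))} {k : ℕ}
    (h : glob j b ^ k • n = 0) : res M (W.basicOpen_le (glob j b)) n = 0 := by
  have hu := isUnit_glob j b
  refine (hu.pow k).smul_eq_zero.1 ?_
  rw [← res_pow_smul, h, res_zero]

/-- Multiplication by an element avoiding the zero divisors of the global sections is injective. -/
theorem mono_smul (M : W.Modules) [M.IsQuasicoherent] (x : B)
    (hx : ∀ n : Γ(M, (⊤ : W.Opens)), glob j x • n = 0 → n = 0) :
    Mono (Formal.smulModΓ M (glob j x)) := by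
  refine mono_of_app_injective _ fun U => (injective_iff_map_eq_zero _).2 fun t ht => ?_
  refine QC70.section_ext M t 0 fun y hy => ?_
  obtain ⟨b, hyb, hbU, -⟩ := exists_basicOpen_le j hy
  refine ⟨_, hbU, hyb, ?_⟩
  rw [res_zero]
  let V := W.basicOpen (glob j b)
  obtain ⟨k, n, hn⟩ := (isLocAt_top M).exists_of (glob j b) (res M hbU t)
  have ht' : resO W (le_top : U ≤ ⊤) (glob j x) • t = 0 := ht
  have h1 : res M (W.basicOpen_le (glob j b)) (glob j x • n) = 0 := by
    have h2 := congrArg (res M hbU) ht'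
    rw [res_smul, res_zero] at h2
    rw [res_smul, hn, smul_comm]
    refine (congrArg (resO W _ (glob j b) ^ k • ·) ?_).trans (smul_zero _)
    refine Eq.trans ?_ h2
    congr 1
    exact (ConcreteCategory.congr_hom (W.presheaf.map_comp (homOfLE (le_top : U ≤ ⊤)).op (homOfLE hbU).op)
      (glob j x))
  obtain ⟨m, hm⟩ := (isLocAt_top M).eq_zero_of (glob j b) _ h1
  rw [smul_comm] at hm
  have h3 := glob_pow_smul_eq_zero j (hx _ hm)
  rw [hn] at h3
  exact ((isUnit_glob j b).pow k).smul_eq_zero.1 h3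

omit [CompactSpace W] [QuasiSeparatedSpace W] in
/-- Associated primes of the sections lie in the open. -/
theorem mem_range_of_isAssociatedPrime (M : W.Modules) [M.IsQuasicoherent] [IsNoetherianRing B]
    (q : PrimeSpectrum B) (hq : letI := modB j M; q.asIdeal ∈ associatedPrimes B Γ(M, (⊤ : W.Opens))) :
    q ∈ Set.range j := by
  letI := modB j M
  obtain ⟨hqp, n, hn⟩ := isAssociatedPrime_iff.1 hq
  have hn0 : n ≠ 0 := fun h => hqp.ne_top (by rw [hn, h]; ext; simp)
  by_contra hnr
  refine hn0 (QC70.section_ext M n 0 fun y _ => ?_)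
  obtain ⟨b, hyb, hb, hbr⟩ := exists_basicOpen_le j (y := y) (U := ⊤) trivial
  refine ⟨_, hb, hyb, ?_⟩
  rw [res_zero]
  have hbq : b ∈ q.asIdeal := by
    by_contra hbq
    obtain ⟨z, -, hz⟩ := hbr hbq
    exact hnr ⟨z, hz⟩
  rw [hn, Submodule.mem_colon_singleton, Submodule.mem_bot] at hbq
  exact glob_pow_smul_eq_zero j (k := 1) (by rw [pow_one]; exact hbq)

/-- The global sections of a finite acyclic module vanish near the points outside the open. -/
theorem exists_annihilator_notMem [IsNoetherianRing B] :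
    ∀ (I : Ideal B) (M : W.Modules) (_ : M.IsQuasicoherent)
      (_ : ∀ q : ℕ, Subsingleton (HE (Coh.toAb M) (q + 1) (⊤ : W.Opens)))
      (_ : letI := modB j M; Module.Finite B Γ(M, (⊤ : W.Opens)))
      (_ : letI := modB j M; Module.annihilator B Γ(M, (⊤ : W.Opens)) = I)
      (w : PrimeSpectrum B), w ∉ Set.range j →
        ∃ a ∉ w.asIdeal, ∀ n : Γ(M, (⊤ : W.Opens)), glob j a • n = 0 := by
  intro I
  induction I using WellFoundedGT.induction with
  | ind I IH =>
  intro M _ hv hfin hI w hw
  letI := modB j M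
  haveI : Module.Finite B Γ(M, (⊤ : W.Opens)) := hfin
  by_cases hN : ∀ n : Γ(M, (⊤ : W.Opens)), n = 0
  · refine ⟨1, fun h => w.isPrime.ne_top ((Ideal.eq_top_iff_one _).2 h), fun n => ?_⟩
    rw [hN n, smul_zero]
  -- choose a regular element vanishing at `w`
  have hfinA := associatedPrimes.finite B Γ(M, (⊤ : W.Opens))
  obtain ⟨x, hxw, hx⟩ : ∃ x ∈ w.asIdeal, ∀ n : Γ(M, (⊤ : W.Opens)), x • n = 0 → n = 0 := by
    by_contra hne
    push Not at hne
    have hsub : (w.asIdeal : Set B) ⊆ ⋃ p ∈ (hfinA.toFinset : Set (Ideal B)), (p : Set B) := by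
      rw [Set.Finite.coe_toFinset, biUnion_associatedPrimes_eq_zero_divisors]
      intro x hx
      obtain ⟨n, h1, h2⟩ := hne x hx
      exact ⟨n, h2, h1⟩
    obtain ⟨p, hp, hwp⟩ := (Ideal.subset_union_prime ⊥ ⊥
      (fun p hp _ _ => ((hfinA.mem_toFinset.1 hp : p ∈ associatedPrimes B _)).isPrime)).1 hsub
    rw [Set.Finite.mem_toFinset] at hp
    have hpr := mem_range_of_isAssociatedPrime j M ⟨p, hp.isPrime⟩ hp
    have hsp : w ⤳ (⟨p, hp.isPrime⟩ : PrimeSpectrum B) :=
      (PrimeSpectrum.le_iff_specializes _ _).1 hwp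
    exact hw (hsp.mem_open j.isOpenEmbedding.isOpen_range hpr)
  haveI := mono_smul j M x hx
  let f := Formal.smulModΓ M (glob j x)
  let S : ShortComplex W.Modules := ShortComplex.mk f (cokernel.π f) (cokernel.condition f)
  have hS : S.ShortExact := { exact := ShortComplex.exact_cokernel f }
  let M' := cokernel f
  haveI hM' : M'.IsQuasicoherent := QC70.isQuasicoherent_cokernel f
  have hSab := hS.map_of_exact (QC70.abSheafFunctor W)
  haveI : Subsingleton (HE (Coh.toAb M) 1 (⊤ : W.Opens)) := hv 0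
  have hv' : ∀ q : ℕ, Subsingleton (HE (Coh.toAb M') (q + 1) (⊤ : W.Opens)) := fun q =>
    subsingleton_of_forall_eq 0 fun z => by
      obtain ⟨y, hy⟩ := Ext.covariant_sequence_exact₃ _ hSab z rfl (@Subsingleton.elim _ (hv (q + 1)) _ _)
      rw [← hy, @Subsingleton.elim _ (hv q) y 0]
      apply Ext.zero_comp
  letI := modB j M'
  let π : Γ(M, (⊤ : W.Opens)) →ₗ[B] Γ(M', (⊤ : W.Opens)) :=
    { toFun := (cokernel.π f).app ⊤
      map_add' := map_add _
      map_smul' := fun b n => (cokernel.π f).app_smul (glob j b) n }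
  have hπ : Function.Surjective π := fun n => by
    haveI : Subsingleton (HE (S.map (QC70.abSheafFunctor W)).X₁ 1 (⊤ : W.Opens)) := hv 0
    exact surjective_of_subsingleton_H1 hSab (⊤ : W.Opens) n
  have hfin' : Module.Finite B Γ(M', (⊤ : W.Opens)) := Module.Finite.of_surjective π hπ
  have htop : ∀ n : Γ(M, (⊤ : W.Opens)), f.app ⊤ n = x • n := fun n => by
    show resO W (le_top : (⊤ : W.Opens) ≤ ⊤) (glob j x) • n = glob j x • n
    congr 1
    exact ConcreteCategory.congr_hom (W.presheaf.map_id (op ⊤)) (glob j x)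
  have hlt : I < Module.annihilator B Γ(M', (⊤ : W.Opens)) := by
    refine lt_of_le_of_ne (hI ▸ π.annihilator_le_of_surjective hπ) fun he => hN fun n => hx n ?_
    have hxI : x ∈ I := by
      rw [he, Module.mem_annihilator]
      intro n'
      obtain ⟨m, rfl⟩ := hπ n'
      refine (π.map_smul x m).symm.trans ?_
      rw [← htop]
      exact sect_f_g (S.map (QC70.abSheafFunctor W)) (⊤ : W.Opens) m
    exact Module.mem_annihilator.1 (hI ▸ hxI) n
  obtain ⟨a, ha, han⟩ := IH _ hlt M' hM' hv' hfin' rfl w hw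
  refine exists_smul_eq_zero_of_smul_mem w.asIdeal ha hxw fun n => ?_
  obtain ⟨m, hm⟩ := sect_exact hSab (⊤ : W.Opens) (a • n)
    ((π.map_smul a n).trans (han (π n)))
  exact ⟨m, hm.symm.trans (htop m)⟩

/-- If a finite acyclic module has full support, the open is closed. -/
theorem isClosed_range [IsNoetherianRing B] (M : W.Modules) [M.IsQuasicoherent]
    (hv : ∀ q : ℕ, Subsingleton (HE (Coh.toAb M) (q + 1) (⊤ : W.Opens)))
    (hfin : letI := modB j M; Module.Finite B Γ(M, (⊤ : W.Opens)))
    (hsupp : ∀ y : W, ¬ Subsingleton (M.presheaf.stalk y)) : IsClosed (Set.range j) := by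
  letI := modB j M
  have h : Set.range j = PrimeSpectrum.zeroLocus (Module.annihilator B Γ(M, (⊤ : W.Opens)) : Set B) := by
    refine Set.Subset.antisymm ?_ fun w hw => ?_
    · rintro _ ⟨y, rfl⟩ a ha
      by_contra hay
      refine hsupp y ?_
      have hya : y ∈ W.basicOpen (glob j a) := by rw [basicOpen_glob]; exact hay
      obtain ⟨b, hyb, hbU, hbr⟩ := exists_basicOpen_le j hya
      let V := W.basicOpen (glob j b)
      have hV : IsAffineOpen V := by
        rw [show V = j ⁻¹ᵁ PrimeSpectrum.basicOpen b from basicOpen_glob j b]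
        exact (IsAffineOpen.Spec_basicOpen b).preimage_of_isOpenImmersion j
          fun z hz => by obtain ⟨z', -, hz'⟩ := hbr hz; exact ⟨z', hz'⟩
      have h0 : ∀ t : Γ(M, V), t = 0 := fun t => by
        obtain ⟨k, n, hn⟩ := (isLocAt_top M).exists_of (glob j b) t
        have hua : IsUnit (resO W (le_top : V ≤ ⊤) (glob j a)) := by
          have h1 := (RingedSpace.isUnit_res_basicOpen W.toLocallyRingedSpace.toRingedSpace (glob j a)).map
            (W.presheaf.map (homOfLE hbU).op).hom
          convert h1 using 1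
          exact (ConcreteCategory.congr_hom (W.presheaf.map_comp
            (homOfLE (le_top : W.basicOpen (glob j a) ≤ ⊤)).op (homOfLE hbU).op) (glob j a))
        have h2 : res M (W.basicOpen_le (glob j b)) (glob j a • n) = 0 := by
          rw [show glob j a • n = 0 from Module.mem_annihilator.1 ha n, res_zero]
        rw [res_smul, hn] at h2
        exact ((isUnit_glob j b).pow k).smul_eq_zero.1 (hua.smul_eq_zero.1 h2)
      refine subsingleton_of_forall_eq 0 fun σ => ?_
      obtain ⟨U, hyU, s, rfl⟩ := TopCat.Presheaf.exists_germ_eq M.presheaf σ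
      obtain ⟨r, hr, hyr⟩ := hV.exists_basicOpen_le (V := U) ⟨y, hyU⟩ hyb
      obtain ⟨k, t, ht⟩ := (isLocAt_of_isQuasicoherent M hV).exists_of r (res M hr s)
      rw [h0 t, res_zero] at ht
      have hu : IsUnit (resO W (W.basicOpen_le r) r) := RingedSpace.isUnit_res_basicOpen _ r
      have hs := (hu.pow k).smul_eq_zero.1 ht.symm
      refine (TopCat.Presheaf.germ_res_apply M.presheaf (homOfLE hr) y hyr s).symm.trans ?_
      exact (congrArg (M.presheaf.germ _ y hyr) hs).trans (map_zero (M.presheaf.germ _ y hyr).hom)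
    · by_contra hwr
      obtain ⟨a, ha, han⟩ := exists_annihilator_notMem j _ M inferInstance hv hfin rfl w hwr
      exact ha (hw (Module.mem_annihilator.2 han))
  rw [h]
  exact PrimeSpectrum.isClosed_zeroLocus _

end Groth.Agent.QFin72
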